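import Groth.Agent.Calg4.RegularAscent
import Groth.Agent.FibreDim.DimStalk
import Groth.Agent.S5091
import Groth.Prelude.Def_Flat

/-!
# Reduced local rings of dimension at most one
-/

set_option autoImplicit false
set_option backward.isDefEq.respectTransparency.types false

universe u

open CategoryTheory AlgebraicGeometry IsLocalRing TopologicalSpace

namespace Groth.CurvStField

/-- A reduced Noetherian local ring of dimension at most one is Cohen–Macaulay. -/
theorem isCM_of_isReduced_dim_le_one (R : Type u) [CommRing R] [IsLocalRing R] [IsNoetherianRing R]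
    [_root_.IsReduced R] (hd : ringKrullDim R ≤ 1) : LocCoh.IsCohenMacaulayLocalRing R := by
  rw [Groth.Calg4.isCohenMacaulayLocalRing_iff_dim_eq]
  refine le_antisymm ?_ (Groth.Calg4.depth_le_ringKrullDim R)
  by_cases h0 : ringKrullDim R ≤ 0
  · exact h0.trans (WithBot.coe_le_coe.2 zero_le)
  refine hd.trans (WithBot.coe_le_coe.2 ?_)
  rw [Groth.Agent.S5091.one_le_depth_iff]
  intro hass
  obtain ⟨-, x, hx⟩ := Submodule.isAssociatedPrime_def.1 hass
  obtain ⟨J, hJ, hxJ⟩ : ∃ J : Ideal R, J.IsPrime ∧ x ∉ J := by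
    by_contra hcon
    push Not at hcon
    have h : x ∈ nilradical R := by
      rw [nilradical_eq_sInf]
      exact Submodule.mem_sInf.2 fun J hJ => hcon J hJ
    have hx0 : x = 0 := (mem_nilradical.1 h).eq_zero
    have h1 : (1 : R) ∈ maximalIdeal R := by
      rw [hx]
      exact Ideal.le_radical (Submodule.mem_colon_singleton.2 (by simp [hx0]))
    exact (maximalIdeal.isMaximal R).ne_top ((Ideal.eq_top_iff_one _).2 h1)
  obtain ⟨P, hP, hPJ⟩ := Ideal.exists_minimalPrimes_le (I := (⊥ : Ideal R)) (J := J) bot_le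
  have hPp : P.IsPrime := hP.1.1
  have hle : maximalIdeal R ≤ P := by
    intro a ha
    rw [hx] at ha
    obtain ⟨m, hm⟩ := ha
    have h2 : a ^ m * x = 0 := (Submodule.mem_bot R).1 (Submodule.mem_colon_singleton.1 hm)
    have h3 : a ^ m * x ∈ P := h2 ▸ P.zero_mem
    exact hPp.mem_of_pow_mem _ ((hPp.mem_or_mem h3).resolve_right fun h => hxJ (hPJ h))
  have hh : (maximalIdeal R).height = 0 :=
    Ideal.height_eq_zero_iff.2 (le_antisymm (le_maximalIdeal hPp.ne_top) hle ▸ hP)
  exact h0 (by rw [← IsLocalRing.maximalIdeal_height_eq_ringKrullDim, hh]; rfl)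

/-- The dimension of the local ring is at most the local dimension. -/
theorem ringKrullDim_stalk_le_localDim (W : Scheme.{u}) (w : W) :
    ringKrullDim (W.presheaf.stalk w) ≤ FlatMor.localDim W w := by
  refine le_iInf fun U => ?_
  let U' : W.Opens := U.1
  show _ ≤ topologicalKrullDim (U' : Scheme.{u})
  rw [Groth.FibreDim.dim_eq_iSup_stalk (U' : Scheme.{u})]
  refine le_trans (le_of_eq ?_) (le_iSup _ (⟨w, U.2⟩ : ↥(U' : Scheme.{u})))
  exact ringKrullDim_eq_of_ringEquiv (asIso (U'.ι.stalkMap ⟨w, U.2⟩)).commRingCatIsoToRingEquiv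

end Groth.CurvStField
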