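import Groth.Agent.CurvStField.Fibre
import Groth.Agent.CMMor.FibreCM
import Groth.Agent.CMMor.Criterion
import Groth.Agent.Hensel1.SectionsLift

/-!
# Families of curves with reduced geometric fibres are Cohen–Macaulay
-/

set_option autoImplicit false
set_option backward.isDefEq.respectTransparency false
set_option backward.isDefEq.respectTransparency.types false

universe u

open CategoryTheory CategoryTheory.Limits AlgebraicGeometry AlgSp Groth.AlgSpBasic

noncomputable section

namespace Groth.CurvStField

variable {S : Scheme.{u}} {n : ℕ}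

/-- On charts over the base, a family of curves with reduced geometric fibres is Cohen–Macaulay. -/
theorem isCMAt_of_reduced_fibres (A : CurvSt.SpFamObj S n) (hA : CurvSt.IsCurveFam A)
    (h : CurvSt.GeomFib (fun _ _ _ X' _ _ => AlgebraicGeometry.IsReduced X') A) {U : Over S}
    {a : (yon S).obj U ⟶ A.X} (ha : RepWith @Etale a) {k : U ⟶ A.base}
    (comm : a ≫ A.f = (yon S).map k) (u : ↥U.left) : MoreMor.IsCMAt k.left u := by
  have hk : a ≫ A.f = (yon S).map k ≫ 𝟙 _ := by rw [Category.comp_id]; exact comm
  have : LocallyOfFinitePresentation k.left := hA.2.2.2.1.1 a (𝟙 _) k ha (repWith_id _ A.base) hk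
  have : Flat k.left := hA.2.1 a (𝟙 _) k ha (repWith_id _ A.base) hk
  let Ω := AlgebraicClosure (A.base.left.residueField (k.left u))
  let t : Spec (CommRingCat.of Ω) ⟶ A.base.left :=
    Spec.map (CommRingCat.ofHom (algebraMap (A.base.left.residueField (k.left u)) Ω)) ≫
      A.base.left.fromSpecResidueField (k.left u)
  obtain ⟨X', q, i, hP, hN, hd⟩ := exists_fibre_scheme A hA t
  have : IsLocallyNoetherian X' := hN
  have : IsReduced X' := h Ω t X' q i hP
  obtain ⟨W, g', q', d, sqW, hdet, -, -⟩ := exists_fibre_chart A hP ha comm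
  have : Etale d := hdet
  have : LocallyOfFiniteType q' :=
    MorphismProperty.of_isPullback (P := @LocallyOfFiniteType) sqW inferInstance
  have : IsLocallyNoetherian W := LocallyOfFiniteType.isLocallyNoetherian q'
  obtain ⟨w, hw₁, -⟩ := Scheme.exists_preimage_of_isPullback sqW u (Classical.arbitrary _) (by
    show k.left u = (A.base.left.fromSpecResidueField (k.left u)) _
    exact (Scheme.fromSpecResidueField_apply _ _).symm)
  have hW : LocCoh.IsCohenMacaulayLocalRing (W.presheaf.stalk w) :=
    (isCM_stalk_etale_iff d w).2 (isCM_of_isReduced_dim_le_one _ (hd (d w)))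
  have := Groth.CMMor.isCM_fiberStalk_of_baseChange k.left t q' g' sqW w
    ((Groth.CMMor.isCM_fiberStalk_iff_fieldBase q' w).2 hW)
  rw [hw₁] at this
  exact (Groth.CMMor.isCMAt_iff k.left u).2 this

theorem locP_cm_of_reduced_fibres (A : CurvSt.SpFamObj S n) (hA : CurvSt.IsCurveFam A)
    (h : CurvSt.GeomFib (fun _ _ _ X' _ _ => AlgebraicGeometry.IsReduced X') A) :
    LocP (fun _ _ g => ∀ x, MoreMor.IsCMAt g x) A.f := by
  intro U V a b g ha hb comm u
  obtain ⟨b₀, rfl⟩ := (yon S).map_surjective b
  have : Etale b₀.left := (repWith_yon_map_iff @Etale b₀).1 hb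
  have comm' : a ≫ A.f = (yon S).map (g ≫ b₀) := by rw [comm, Functor.map_comp]
  have : LocallyOfFinitePresentation (g ≫ b₀).left :=
    hA.2.2.2.1.1 a (𝟙 _) (g ≫ b₀) ha (repWith_id _ A.base) (by rw [Category.comp_id, comm'])
  have hk := isCMAt_of_reduced_fibres A hA h ha comm' u
  let σ : U.left ⟶ pullback (g ≫ b₀).left b₀.left := pullback.lift (𝟙 _) g.left (Category.id_comp _)
  have : IsOpenImmersion σ :=
    Groth.Hensel1.isOpenImmersion_section (pullback.fst (g ≫ b₀).left b₀.left) σ (pullback.lift_fst _ _ _)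
  have hp : MoreMor.IsCMAt (pullback.snd (g ≫ b₀).left b₀.left) (σ u) := by
    refine Groth.CMMor.isCMAt_baseChange (g ≫ b₀).left b₀.left (pullback.snd _ _) (pullback.fst _ _)
      (IsPullback.of_hasPullback _ _) (σ u) ?_
    have e : (pullback.fst (g ≫ b₀).left b₀.left) (σ u) = u := by
      rw [← Scheme.Hom.comp_apply]
      show (σ ≫ pullback.fst _ _) u = u
      rw [pullback.lift_fst]; rfl
    exact e.symm ▸ hk
  have := (Groth.CMMor.isCMAt_openImmersion_comp σ (pullback.snd (g ≫ b₀).left b₀.left) u).2 hp
  rwa [pullback.lift_snd] at this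

end Groth.CurvStField
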