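import Groth.Agent.CurvStField.LocP
import Groth.Agent.CurvStField.CMDimOne
import Groth.Agent.CodimOneAffine.Absolute
import Groth.Agent.AlgSp3.HasAtMor
import Groth.Agent.FibreDim.BaseChange
import Groth.Prelude.Def_StCurv2

/-!
# Fibres of families of curves over field valued points

The fibre of a family of curves over a field valued point of the base is a scheme, and its etale
charts come from those of the total space.
-/

set_option autoImplicit false
set_option backward.isDefEq.respectTransparency false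
set_option backward.isDefEq.respectTransparency.types false

universe u

open CategoryTheory CategoryTheory.Limits AlgebraicGeometry TopologicalSpace AlgSp Groth.AlgSpBasic
open Groth.AlgSp2.SectionPoint

noncomputable section

namespace Groth.CurvStField

variable {S : Scheme.{u}} {n : ℕ}

/-- Stalks of a scheme over a field valued point are at most as large as fibre dimensions. -/
theorem ringKrullDim_stalk_le_fibreDimAt {K : Type u} [Field K] {W : Scheme.{u}}
    (g : W ⟶ Spec (CommRingCat.of K)) (w : W) :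
    ringKrullDim (W.presheaf.stalk w) ≤ FlatMor.fibreDimAt g w := by
  obtain ⟨e⟩ := exists_fibreStalkEquiv g w (maximalIdeal_stalk_spec_field K _)
  rw [ringKrullDim_eq_of_ringEquiv e]
  exact ringKrullDim_stalk_le_localDim _ _

/-- A chart of a family gives an etale chart of every scheme fibre. -/
theorem exists_fibre_chart (A : CurvSt.SpFamObj S n) {K : Type u} [Field K]
    {t : Spec (CommRingCat.of K) ⟶ A.base.left} {X' : Scheme.{u}} {q : X' ⟶ Spec (CommRingCat.of K)}
    {i : (yon S).obj (A.ptOver (q ≫ t)) ⟶ A.X}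
    (hP : IsPullback i ((yon S).map (A.fibHom t q)) A.f ((yon S).map (A.ptHom t)))
    {U : Over S} {a : (yon S).obj U ⟶ A.X} (ha : RepWith @Etale a) {k : U ⟶ A.base}
    (comm : a ≫ A.f = (yon S).map k) :
    ∃ (W : Scheme.{u}) (g' : W ⟶ U.left) (q' : W ⟶ Spec (CommRingCat.of K)) (d : W ⟶ X'),
      IsPullback g' q' k.left t ∧ Etale d ∧ d ≫ q = q' ∧ (RepWith @Surjective a → Surjective d) := by
  have sqW := IsPullback.of_hasPullback k.left t
  let W : Over S := Over.mk (pullback.fst k.left t ≫ U.hom)
  let w₁ : W ⟶ U := Over.homMk (pullback.fst k.left t) rfl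
  let w₂ : W ⟶ A.ptOver t := Over.homMk (pullback.snd k.left t) (by
    show pullback.snd k.left t ≫ t ≫ A.base.hom = pullback.fst k.left t ≫ U.hom
    rw [← Category.assoc, ← pullback.condition, Category.assoc, Over.w k])
  have hW : IsPullback w₁ w₂ k (A.ptHom t) :=
    IsPullback.of_map (Over.forget S) (Over.OverMorphism.ext sqW.w) sqW
  have hWy : IsPullback ((yon S).map w₁) ((yon S).map w₂) (a ≫ A.f) ((yon S).map (A.ptHom t)) := by
    rw [comm]; exact hW.map (yon S)
  let l := hP.lift ((yon S).map w₁ ≫ a) ((yon S).map w₂) ((Category.assoc _ _ _).trans hWy.w)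
  have hl : IsPullback ((yon S).map w₁) l a i :=
    IsPullback.of_bot (by rw [hP.lift_snd]; exact hWy) (hP.lift_fst _ _ _).symm hP
  obtain ⟨d, hd⟩ := (yon S).map_surjective l
  have hd₂ : d ≫ A.fibHom t q = w₂ := (yon S).map_injective (by rw [Functor.map_comp, hd, hP.lift_snd])
  refine ⟨W.left, w₁.left, w₂.left, d.left, sqW, (repWith_yon_map_iff @Etale d).1 ?_,
    congrArg CommaMorphism.left hd₂, fun has => (repWith_yon_map_iff @Surjective d).1 ?_⟩
  · rw [hd]; exact repWith_of_isPullback hl ha
  · rw [hd]; exact repWith_of_isPullback hl has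

/-- Fibre dimensions on any chart over the base of a family of curves are at most one. -/
theorem fibreDimAt_chart_le (A : CurvSt.SpFamObj S n) (hA : CurvSt.IsCurveFam A) {U : Over S}
    {a : (yon S).obj U ⟶ A.X} (ha : RepWith @Etale a) {k : U ⟶ A.base}
    (comm : a ≫ A.f = (yon S).map k) (u : ↥U.left) :
    FlatMor.fibreDimAt k.left u ≤ ((1 : ℕ) : WithBot ℕ∞) :=
  (Groth.AlgSp3.hasAtMor_iff_of_chart Groth.AlgSp3.etMor_fibreDimAt
    (fun d => d ≤ ((1 : ℕ) : WithBot ℕ∞)) hA.1.diag (IsAlgSpace.yon_obj A.base).diag ha (repWith_id _ A.base)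
    (by rw [Category.comp_id]; exact comm) u).1 (hA.2.2.2.2 (Points.ofPt a u))

/-- The fibre of a family of curves over a field valued point is a scheme of dimension at most one. -/
theorem exists_fibre_scheme (A : CurvSt.SpFamObj S n) (hA : CurvSt.IsCurveFam A) {K : Type u} [Field K]
    (t : Spec (CommRingCat.of K) ⟶ A.base.left) :
    ∃ (X' : Scheme.{u}) (q : X' ⟶ Spec (CommRingCat.of K)) (i : (yon S).obj (A.ptOver (q ≫ t)) ⟶ A.X),
      IsPullback i ((yon S).map (A.fibHom t q)) A.f ((yon S).map (A.ptHom t)) ∧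
        IsLocallyNoetherian X' ∧ ∀ x : X', ringKrullDim (X'.presheaf.stalk x) ≤ 1 := by
  have sq := IsPullback.of_hasPullback A.f ((yon S).map (A.ptHom t))
  have hB : IsAlgSpace ((yon S).obj A.base) := IsAlgSpace.yon_obj _
  let P : Space S := ⟨pullback A.f ((yon S).map (A.ptHom t)),
    isAlgSpace_of_isPullback sq hB.diag hA.1 (IsAlgSpace.yon_obj _)⟩
  have hsep : IsSeparatedSp P.obj := by
    have : IsSeparated (A.ptOver t).hom := by
      have : IsSeparated ((t ≫ A.base.hom) ≫ terminal.from S) := by
        rw [terminal.comp_from]; infer_instance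
      exact IsSeparated.of_comp (t ≫ A.base.hom) (terminal.from S)
    exact isSeparatedSp_of_isSeparatedMor (isTerminalYon S) (pullback.snd A.f _ ≫ (isTerminalYon S).from _)
      (Groth.AlgSpBasic.ColimitSep.isSeparatedMor_comp
        (repWith_of_isPullback (isPullback_diagonal_baseChange sq) hA.2.2.1.1)
        (Groth.CodimOneAffine.isSeparatedMor_of_isSeparatedSp (isTerminalYon S) _
          (Groth.CodimOneAffine.isSeparatedSp_yon_of_isSeparated _)))
  obtain ⟨U, a, ha, has⟩ := hA.1.atlas
  obtain ⟨k, hk⟩ := (yon S).map_surjective (a ≫ A.f)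
  have : LocallyOfFinitePresentation k.left :=
    hA.2.2.2.1.1 a (𝟙 _) k ha (repWith_id _ A.base) (by rw [Category.comp_id, hk])
  have sqW := IsPullback.of_hasPullback k.left t
  let W : Over S := Over.mk (pullback.fst k.left t ≫ U.hom)
  let w₁ : W ⟶ U := Over.homMk (pullback.fst k.left t) rfl
  let w₂ : W ⟶ A.ptOver t := Over.homMk (pullback.snd k.left t) (by
    show pullback.snd k.left t ≫ t ≫ A.base.hom = pullback.fst k.left t ≫ U.hom
    rw [← Category.assoc, ← pullback.condition, Category.assoc, Over.w k])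
  have hWy : IsPullback ((yon S).map w₁) ((yon S).map w₂) (a ≫ A.f) ((yon S).map (A.ptHom t)) := by
    rw [← hk]
    exact (IsPullback.of_map (Over.forget S) (Over.OverMorphism.ext sqW.w) sqW :
      IsPullback w₁ w₂ k (A.ptHom t)).map (yon S)
  let l := sq.lift ((yon S).map w₁ ≫ a) ((yon S).map w₂) ((Category.assoc _ _ _).trans hWy.w)
  have hl : IsPullback ((yon S).map w₁) l a (pullback.fst A.f _) :=
    IsPullback.of_bot (by rw [sq.lift_snd]; exact hWy) (sq.lift_fst _ _ _).symm sq
  have hle : RepWith @Etale l := repWith_of_isPullback hl ha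
  have hls : RepWith @Surjective l := repWith_of_isPullback hl has
  have : LocallyOfFiniteType w₂.left :=
    inferInstanceAs (LocallyOfFiniteType (pullback.snd k.left t))
  have : IsLocallyNoetherian (A.ptOver t).left :=
    inferInstanceAs (IsLocallyNoetherian (Spec (CommRingCat.of K)))
  have : IsLocallyNoetherian W.left := LocallyOfFiniteType.isLocallyNoetherian w₂.left
  have hN : IsLocNoethSp P.obj := ⟨W, l, hle, hls, inferInstance⟩
  have hdimW : ∀ w : W.left, ringKrullDim (W.left.presheaf.stalk w) ≤ 1 := fun w => by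
    refine (ringKrullDim_stalk_le_fibreDimAt (pullback.snd k.left t) w).trans ?_
    rw [Groth.FibreDim.fibreDimAt_baseChange k.left t (pullback.snd k.left t) (pullback.fst k.left t) sqW w]
    exact_mod_cast fibreDimAt_chart_le A hA ha hk.symm _
  obtain ⟨P', j, hj, hrep, hrange⟩ := exists_schematic_openSub P
  have : Mono j.hom := mono_of_repWith (fun _ _ k (_ : IsOpenImmersion k) => inferInstance) hj
  obtain ⟨s, hs⟩ := exists_lift_of_range_openImmersion P.property hj (𝟙 P.obj) (by
    rintro _ ⟨x, rfl⟩
    rw [hrange]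
    obtain ⟨w, rfl⟩ := surjective_ofPt_of_repWith hls x
    rw [Points.map_id]
    exact Groth.CodimOneAffine.isSchematicPt_of_codim_le_one' hsep hN ⟨W, l, w, hle, rfl, hdimW w⟩)
  have : IsSplitEpi j.hom := ⟨⟨⟨s, hs⟩⟩⟩
  have : IsIso j.hom := isIso_of_mono_of_isSplitEpi j.hom
  obtain ⟨G, ⟨e⟩⟩ := exists_iso_of_representable P' hrep
  let e' : (yon S).obj G ≅ P.obj := e ≪≫ asIso j.hom
  obtain ⟨m, hm⟩ := (yon S).map_surjective (e'.hom ≫ pullback.snd A.f _)
  let X' : Scheme.{u} := G.left
  let q : X' ⟶ Spec (CommRingCat.of K) := m.left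
  let ψ : A.ptOver (q ≫ t) ≅ G := Over.isoMk (Iso.refl _) (by
    show 𝟙 _ ≫ G.hom = (m.left ≫ t) ≫ A.base.hom
    rw [Category.id_comp, Category.assoc]
    exact (Over.w m).symm)
  have hψ : A.fibHom t q = ψ.hom ≫ m := Over.OverMorphism.ext (Category.id_comp _).symm
  have hP : IsPullback (((yon S).mapIso ψ ≪≫ e').hom ≫ pullback.fst A.f _) ((yon S).map (A.fibHom t q))
      A.f ((yon S).map (A.ptHom t)) :=
    sq.of_iso ((yon S).mapIso ψ ≪≫ e').symm (Iso.refl _) (Iso.refl _) (Iso.refl _) (by simp)
      (by simp [hψ, hm]) (by simp) (by simp)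
  refine ⟨X', q, _, hP, ?_⟩
  obtain ⟨W', g', q', d, sqW', hd, hdq, hds⟩ := exists_fibre_chart A hP ha hk.symm
  have : Etale d := hd
  have : Surjective d := hds has
  have : LocallyOfFiniteType q' :=
    MorphismProperty.of_isPullback (P := @LocallyOfFiniteType) sqW' inferInstance
  have : IsLocallyNoetherian W' := LocallyOfFiniteType.isLocallyNoetherian q'
  refine ⟨Groth.FlatMor2.isLocallyNoetherian_of_flat_surjective d, fun x => ?_⟩
  obtain ⟨w, rfl⟩ := d.surjective x
  refine (etaleInvariant_ringKrullDim d w).ge.trans ((ringKrullDim_stalk_le_fibreDimAt q' w).trans ?_)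
  rw [Groth.FibreDim.fibreDimAt_baseChange k.left t q' g' sqW' w]
  exact_mod_cast fibreDimAt_chart_le A hA ha hk.symm _

end Groth.CurvStField
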