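import Groth.Prelude.Def_StCurv2
import Groth.Agent.AlgSpBasic.Sep
import Groth.Agent.VarietyBC.Reduced
import Groth.Agent.PropsBasic.LociBaseChange.Scheme
import Groth.Agent.S9777

/-!
# Geometric fibres of a scheme over a field

The conditions on geometric fibres of the family given by a scheme over a field, compared with the
conditions on the scheme.
-/

set_option autoImplicit false
set_option backward.isDefEq.respectTransparency false
set_option backward.isDefEq.respectTransparency.types false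

universe u

open CategoryTheory CategoryTheory.Limits AlgebraicGeometry AlgSp Groth.AlgSpBasic Topology

noncomputable section

namespace Groth.CurvStField

variable {S : Scheme.{u}} {k : Type u} [Field k] {X : Scheme.{u}} (p : X ⟶ Spec (CommRingCat.of k))
  (t : Spec (CommRingCat.of k) ⟶ S)

/-- The family over the point given by `X`. -/
abbrev famObj : CurvSt.SpFamObj S 0 :=
  (CurvSt.toSpFam S 0).obj ⟨Over.mk t, X, p, Fin.elim0, fun i => i.elim0⟩

theorem geomFib_iff (P : ∀ (Ω : Type u) [Field Ω] [IsAlgClosed Ω] (X' : Scheme.{u}),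
    (X' ⟶ Spec (CommRingCat.of Ω)) → Prop) :
    CurvSt.GeomFib (fun Ω _ _ X' q _ => P Ω X' q) (famObj p t) ↔
      ∀ (Ω : Type u) [Field Ω] [IsAlgClosed Ω] (t' : Spec (CommRingCat.of Ω) ⟶ Spec (CommRingCat.of k))
        (X' : Scheme.{u}) (i : X' ⟶ X) (q : X' ⟶ Spec (CommRingCat.of Ω)),
        IsPullback i q p t' → P Ω X' q := by
  constructor
  · intro H Ω _ _ t' X' i q sq
    let A := famObj p t
    let i₀ : A.ptOver (q ≫ t') ⟶ (⟨Over.mk t, X, p, Fin.elim0, fun i => i.elim0⟩ : CurvSt.PtFamObj S 0).totOver :=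
      Over.homMk i (by
        show i ≫ p ≫ t = (q ≫ t') ≫ t
        rw [← Category.assoc, sq.w])
    exact H Ω t' X' q ((yon S).map i₀)
      ((IsPullback.of_map (Over.forget S) (Over.OverMorphism.ext sq.w) sq :
        IsPullback i₀ (A.fibHom t' q)
          (⟨Over.mk t, X, p, Fin.elim0, fun i => i.elim0⟩ : CurvSt.PtFamObj S 0).fOver
          (A.ptHom t')).map (yon S))
  · intro H Ω _ _ t' X' q i hP
    obtain ⟨i₀, rfl⟩ := (yon S).map_surjective i
    exact H Ω t' X' i₀.left q (isPullback_left (isPullback_of_yon hP))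

/-- A geometric point of the spectrum of a field. -/
theorem exists_fibre : ∃ (X' : Scheme.{u}) (i : X' ⟶ X) (q : X' ⟶ Spec (CommRingCat.of (AlgebraicClosure k)))
    (t' : Spec (CommRingCat.of (AlgebraicClosure k)) ⟶ Spec (CommRingCat.of k)), IsPullback i q p t' :=
  ⟨_, _, _, Spec.map (CommRingCat.ofHom (algebraMap k (AlgebraicClosure k))), IsPullback.of_hasPullback _ _⟩

theorem surjective_of_field {K L : Type u} [Field K] [Field L]
    (g : Spec (CommRingCat.of L) ⟶ Spec (CommRingCat.of K)) : Surjective g :=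
  ⟨fun x => ⟨Classical.arbitrary _, Subsingleton.elim _ _⟩⟩

theorem flat_of_field {K : Type u} [Field K] {W : Scheme.{u}} (g : W ⟶ Spec (CommRingCat.of K)) :
    Flat g := by
  refine Flat.of_stalkMap _ fun w => ?_
  have h := IrreducibleSpace.isIrreducible_univ (PrimeSpectrum K)
  let _ := (g.stalkMap w).hom.toAlgebra
  have hf : IsField ((Spec (CommRingCat.of K)).presheaf.stalk (g w)) := by
    refine isField_stalk_of_closure_mem_irreducibleComponents _ _ ?_
    have : IrreducibleSpace ↥(Spec (CommRingCat.of K)) := inferInstanceAs (IrreducibleSpace (PrimeSpectrum K))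
    rw [irreducibleComponents_eq_singleton, Set.mem_singleton_iff]
    have : Subsingleton ↥(Spec (CommRingCat.of K)) := inferInstanceAs (Subsingleton (PrimeSpectrum K))
    exact Set.eq_univ_of_forall fun y => subset_closure (Subsingleton.elim y _)
  let _ := hf.toField
  exact RingHom.flat_algebraMap_iff.mpr inferInstance

/-- The map between the fibres over a field and over its algebraic closure. -/
theorem exists_cover {K : Type u} [Field K] {Z : Scheme.{u}} {fst : Z ⟶ X} {snd : Z ⟶ Spec (CommRingCat.of K)}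
    {y : Spec (CommRingCat.of K) ⟶ Spec (CommRingCat.of k)} (sq : IsPullback fst snd p y) :
    ∃ (Ω : Type u) (_ : Field Ω) (_ : IsAlgClosed Ω) (t' : Spec (CommRingCat.of Ω) ⟶ Spec (CommRingCat.of k))
      (X' : Scheme.{u}) (i : X' ⟶ X) (q : X' ⟶ Spec (CommRingCat.of Ω)) (m : X' ⟶ Z),
      IsPullback i q p t' ∧ Surjective m ∧ Flat m := by
  let c := Spec.map (CommRingCat.ofHom (algebraMap K (AlgebraicClosure K)))
  have sq₂ := IsPullback.of_hasPullback snd c
  exact ⟨AlgebraicClosure K, inferInstance, inferInstance, _, _, _, _, _, sq₂.paste_horiz sq,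
    MorphismProperty.of_isPullback (P := @Surjective) sq₂.flip (surjective_of_field c),
    MorphismProperty.of_isPullback (P := @Flat) sq₂.flip (flat_of_field c)⟩

theorem geomFib_isReduced_iff :
    CurvSt.GeomFib (fun _ _ _ X' _ _ => IsReduced X') (famObj p t) ↔ GeometricallyReduced p := by
  refine (geomFib_iff p t fun _ _ _ X' _ => IsReduced X').trans
    ⟨fun H => ⟨fun K _ y Z fst snd sq => ?_⟩, fun H Ω _ _ t' X' i q sq => H.1 t' i q sq⟩
  obtain ⟨Ω, _, _, t', X', i, q, m, sq', hs, hf⟩ := exists_cover p sq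
  have : IsReduced X' := H Ω t' X' i q sq'
  have : ∀ z, _root_.IsReduced (Z.presheaf.stalk z) := fun z => by
    obtain ⟨x, hx⟩ := m.surjective z
    exact Groth.VarietyBC.isReduced_stalk_of_flat m x hx
  exact isReduced_of_isReduced_stalk Z

theorem geomFib_connected_iff :
    CurvSt.GeomFib (fun _ _ _ X' _ _ => ConnectedSpace ↥X') (famObj p t) ↔ GeometricallyConnected p := by
  refine (geomFib_iff p t fun _ _ _ X' _ => ConnectedSpace ↥X').trans
    ⟨fun H => ⟨fun K _ y Z fst snd sq => ?_⟩, fun H Ω _ _ t' X' i q sq => H.1 t' i q sq⟩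
  obtain ⟨Ω, _, _, t', X', i, q, m, sq', hs, hf⟩ := exists_cover p sq
  have : ConnectedSpace X' := H Ω t' X' i q sq'
  exact m.surjective.connectedSpace m.continuous

theorem topologicalKrullDim_fiber {k : Type u} [Field k] {W : Scheme.{u}} (g : W ⟶ Spec (CommRingCat.of k))
    (z : ↥(Spec (CommRingCat.of k))) : topologicalKrullDim ↥(g.fiber z) = topologicalKrullDim ↥W := by
  have hr : Function.Surjective (g.fiberι z) := Set.range_eq_univ.1 (by
    rw [g.range_fiberι]
    exact Set.eq_univ_of_forall fun _ => Subsingleton.elim (α := PrimeSpectrum k) _ _)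
  exact IsHomeomorph.topologicalKrullDim_eq _ ((g.fiberι z).isEmbedding.toHomeomorphOfSurjective hr).isHomeomorph

theorem dim_eq_of_isPullback [QuasiCompact p] [LocallyOfFiniteType p] {Ω : Type u} [Field Ω]
    {t' : Spec (CommRingCat.of Ω) ⟶ Spec (CommRingCat.of k)} {X' : Scheme.{u}} {i : X' ⟶ X}
    {q : X' ⟶ Spec (CommRingCat.of Ω)} (sq : IsPullback i q p t') :
    topologicalKrullDim ↥X' = topologicalKrullDim ↥X := by
  have h := Groth.Agent.S9777.result p t' q i sq (Classical.arbitrary _)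
  rwa [topologicalKrullDim_fiber, topologicalKrullDim_fiber] at h

theorem geomFib_reduced_connected_dim_iff [QuasiCompact p] [LocallyOfFiniteType p] :
    CurvSt.GeomFib (fun _ _ _ X' _ _ => IsReduced X' ∧ ConnectedSpace ↥X' ∧ topologicalKrullDim ↥X' = 1)
        (famObj p t) ↔
      GeometricallyReduced p ∧ GeometricallyConnected p ∧ topologicalKrullDim ↥X = 1 := by
  refine ⟨fun H => ⟨(geomFib_isReduced_iff p t).1 fun Ω _ _ t' X' q i hP => (H Ω t' X' q i hP).1,
    (geomFib_connected_iff p t).1 fun Ω _ _ t' X' q i hP => (H Ω t' X' q i hP).2.1, ?_⟩,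
    fun ⟨hr, hc, hd⟩ => (geomFib_iff p t fun _ _ _ X' _ =>
      IsReduced X' ∧ ConnectedSpace ↥X' ∧ topologicalKrullDim ↥X' = 1).2 fun Ω _ _ t' X' i q sq =>
        ⟨hr.1 t' i q sq, hc.1 t' i q sq, (dim_eq_of_isPullback p sq).trans hd⟩⟩
  obtain ⟨X', i, q, t', sq⟩ := exists_fibre p
  rw [← dim_eq_of_isPullback p sq]
  exact ((geomFib_iff p t fun _ _ _ X' _ =>
      IsReduced X' ∧ ConnectedSpace ↥X' ∧ topologicalKrullDim ↥X' = 1).1 H _ t' X' i q sq).2.2

theorem exists_smooth_nhd_iff {Y Z : Scheme.{u}} (g : Y ⟶ Z) [LocallyOfFinitePresentation g] (y : Y) :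
    (∃ U : Y.Opens, y ∈ U ∧ Smooth (U.ι ≫ g)) ↔ y ∈ g.smoothLocus := by
  constructor
  · rintro ⟨U, hyU, hs⟩
    have h : (⟨y, hyU⟩ : U) ∈ U.ι ⁻¹ᵁ g.smoothLocus := by
      rw [Scheme.Hom.preimage_smoothLocus_eq U.ι g, Scheme.Hom.smoothLocus_eq_top]; trivial
    exact h
  · refine fun hy => ⟨g.smoothLocus, hy, ?_⟩
    rw [← Scheme.Hom.smoothLocus_eq_top_iff, ← Scheme.Hom.preimage_smoothLocus_eq]
    exact top_le_iff.mp fun p _ => p.2

theorem finite_preimage_closed_point [IsProper p] {Ω : Type u} [Field Ω]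
    {t' : Spec (CommRingCat.of Ω) ⟶ Spec (CommRingCat.of k)} {X' : Scheme.{u}} {i : X' ⟶ X}
    {q : X' ⟶ Spec (CommRingCat.of Ω)} (sq : IsPullback i q p t') {x : X} (hx : IsClosed ({x} : Set X)) :
    (i ⁻¹' {x}).Finite := by
  have : IsClosedImmersion (X.fromSpecResidueField x) := isClosed_singleton_iff_isClosedImmersion.1 hx
  have : IsFinite (X.fromSpecResidueField x ≫ p) := by
    have : IsAffineHom (X.fromSpecResidueField x ≫ p) := inferInstance
    exact (IsFinite.iff_isProper_and_isAffineHom).2 ⟨inferInstance, inferInstance⟩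
  have hsq : IsPullback (i.fiberToSpecResidueField x) (i.fiberι x ≫ q) (X.fromSpecResidueField x ≫ p) t' :=
    (IsPullback.of_hasPullback i (X.fromSpecResidueField x)).flip.paste_vert sq
  have : IsFinite (i.fiberι x ≫ q) := MorphismProperty.of_isPullback (P := @IsFinite) hsq ‹_›
  have hfin : (Set.univ : Set ↥(i.fiber x)).Finite := by
    refine ((i.fiberι x ≫ q).finite_preimage_singleton (Classical.arbitrary _)).subset fun z _ => ?_
    exact Subsingleton.elim (α := PrimeSpectrum Ω) _ _
  rw [← i.range_fiberι x, ← Set.image_univ]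
  exact hfin.image _

theorem geomFib_smooth_finite_iff [IsProper p] :
    CurvSt.GeomFib (fun _ _ _ X' q _ => Set.Finite {x : ↥X' | ¬ ∃ U : X'.Opens, x ∈ U ∧ Smooth (U.ι ≫ q)})
        (famObj p t) ↔
      Set.Finite {x : ↥X | ¬ ∃ U : X.Opens, x ∈ U ∧ Smooth (U.ι ≫ p)} := by
  have : IsLocallyNoetherian X := LocallyOfFiniteType.isLocallyNoetherian p
  have : JacobsonSpace X := LocallyOfFiniteType.jacobsonSpace p
  have key : ∀ (Ω : Type u) [Field Ω] (t' : Spec (CommRingCat.of Ω) ⟶ Spec (CommRingCat.of k))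
      (X' : Scheme.{u}) (i : X' ⟶ X) (q : X' ⟶ Spec (CommRingCat.of Ω)), IsPullback i q p t' →
      {x : ↥X' | ¬ ∃ U : X'.Opens, x ∈ U ∧ Smooth (U.ι ≫ q)} =
        i ⁻¹' {x : ↥X | ¬ ∃ U : X.Opens, x ∈ U ∧ Smooth (U.ι ≫ p)} := by
    intro Ω _ t' X' i q sq
    have : LocallyOfFinitePresentation q := MorphismProperty.of_isPullback (P := @LocallyOfFinitePresentation)
      sq inferInstance
    have : Flat t' := flat_of_field t'
    ext x
    simp only [Set.mem_setOf_eq, Set.mem_preimage, exists_smooth_nhd_iff]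
    exact not_congr ⟨fun h => Groth.PropsBasic.Loci.mem_smoothLocus_of_flat sq h,
      fun h => Groth.PropsBasic.Loci.preimage_smoothLocus_le sq h⟩
  refine (geomFib_iff p t fun _ _ _ X' q =>
    Set.Finite {x : ↥X' | ¬ ∃ U : X'.Opens, x ∈ U ∧ Smooth (U.ι ≫ q)}).trans ⟨fun H => ?_, fun H => ?_⟩
  · obtain ⟨X', i, q, t', sq⟩ := exists_fibre p
    have : Surjective i := MorphismProperty.of_isPullback (P := @Surjective) sq.flip (surjective_of_field t')
    rw [← Set.image_preimage_eq {x : ↥X | ¬ ∃ U : X.Opens, x ∈ U ∧ Smooth (U.ι ≫ p)} i.surjective,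
      ← key _ t' X' i q sq]
    exact (H _ t' X' i q sq).image _
  · intro Ω _ _ t' X' i q sq
    rw [key Ω t' X' i q sq]
    set N := {x : ↥X | ¬ ∃ U : X.Opens, x ∈ U ∧ Smooth (U.ι ≫ p)} with hN
    have hNcl : IsClosed N := by
      have : N = (p.smoothLocus : Set X)ᶜ := by ext x; simp [hN, exists_smooth_nhd_iff]
      rw [this]
      exact p.smoothLocus.isOpen.isClosed_compl
    have hsub : N ⊆ closedPoints X := by
      have h1 : closure (N ∩ closedPoints X) = N := JacobsonSpace.closure_inter_closedPoints hNcl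
      have h2 : IsClosed (N ∩ closedPoints X) := by
        rw [← Set.biUnion_of_singleton (N ∩ closedPoints X)]
        exact (H.inter_of_left _).isClosed_biUnion fun x hx => hx.2
      rw [h2.closure_eq] at h1
      exact h1 ▸ Set.inter_subset_right
    rw [← Set.biUnion_of_singleton N, Set.preimage_iUnion₂]
    exact H.biUnion fun x hx => finite_preimage_closed_point p sq (hsub hx)

end Groth.CurvStField
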