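import Groth.Agent.AlgSpEt.GorMor
import Groth.Agent.CMMor.BaseChange
import Groth.Agent.Calg4.RegularAscent
import Groth.Agent.AlgSpCartier.LciSp
import Groth.Agent.Ega4Algebra2.CMEquiv
import Groth.Agent.Hensel1.EssEt
import Groth.Agent.KoszulLCI.SchemeBaseChange
import Groth.Prelude.Def_MoreMor

/-!
# Chart-wise properties of a scheme over a field

For a morphism of schemes to the spectrum of a field, the Cohen–Macaulay, Gorenstein and Koszul
conditions on all etale chart diagrams amount to the conditions on the scheme itself.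
-/

set_option autoImplicit false
set_option backward.isDefEq.respectTransparency false
set_option backward.isDefEq.respectTransparency.types false

universe u

open CategoryTheory CategoryTheory.Limits AlgebraicGeometry IsLocalRing AlgSp Groth.AlgSpBasic

noncomputable section

namespace Groth.CurvStField

variable {S : Scheme.{u}}

/-- Chart diagrams of a map of representable sheaves are diagrams of schemes. -/
theorem locP_yon_map_iff {P : MorphismProperty Scheme.{u}} {A B : Over S} (g : A ⟶ B)
    (h : P g.left → ∀ (U V : Over S) (a : U ⟶ A) (b : V ⟶ B) (k : U ⟶ V), Etale a.left → Etale b.left →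
      a.left ≫ g.left = k.left ≫ b.left → P k.left) :
    LocP P ((yon S).map g) ↔ P g.left := by
  refine ⟨fun H => H (𝟙 _) (𝟙 _) g (repWith_id _ A) (repWith_id _ B) (by simp), fun H U V a b k ha hb comm => ?_⟩
  obtain ⟨a₀, rfl⟩ := (yon S).map_surjective a
  obtain ⟨b₀, rfl⟩ := (yon S).map_surjective b
  rw [← Functor.map_comp, ← Functor.map_comp] at comm
  exact h H U V a₀ b₀ k ((repWith_yon_map_iff @Etale a₀).1 ha) ((repWith_yon_map_iff @Etale b₀).1 hb)
    (congrArg CommaMorphism.left ((yon S).map_injective comm))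

theorem maximalIdeal_stalk_spec_field (k : Type u) [Field k] (z : ↥(Spec (CommRingCat.of k))) :
    maximalIdeal ((Spec (CommRingCat.of k)).presheaf.stalk z) = ⊥ := by
  have : Subsingleton ↥(Spec (CommRingCat.of k)) := inferInstanceAs (Subsingleton (PrimeSpectrum k))
  refine (IsLocalRing.isField_iff_maximalIdeal_eq).1 ?_
  refine isField_stalk_of_closure_mem_irreducibleComponents _ _ ?_
  have : IrreducibleSpace ↥(Spec (CommRingCat.of k)) := inferInstanceAs (IrreducibleSpace (PrimeSpectrum k))
  rw [irreducibleComponents_eq_singleton, Set.mem_singleton_iff]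
  exact Set.eq_univ_of_forall fun y => subset_closure (Subsingleton.elim y _)

theorem maximalIdeal_stalk_of_etale {k : Type u} [Field k] {V : Scheme.{u}}
    (b : V ⟶ Spec (CommRingCat.of k)) [Etale b] (v : V) : maximalIdeal (V.presheaf.stalk v) = ⊥ := by
  let _ := (b.stalkMap v).hom.toAlgebra
  have h := Groth.Hensel1.map_maximalIdeal_of_essentiallyEtale
    (Groth.Hensel1.isEssentiallyEtale_stalkMap_of_etale b v)
  rw [maximalIdeal_stalk_spec_field, Ideal.map_bot] at h
  exact h.symm

/-- When the local ring of the base is a field the local ring of the fibre is that of the source. -/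
theorem exists_fibreStalkEquiv {U V : Scheme.{u}} (h : U ⟶ V) (u : U)
    (hm : maximalIdeal (V.presheaf.stalk (h u)) = ⊥) :
    Nonempty (U.presheaf.stalk u ≃+* (h.fiber (h u)).presheaf.stalk (h.asFiber u)) := by
  obtain ⟨e⟩ := Groth.Flatmor4.exists_fiberStalkEquiv h u
  exact ⟨((Ideal.quotEquivOfEq (by rw [hm, Ideal.map_bot] :
    (maximalIdeal (V.presheaf.stalk (h u))).map (h.stalkMap u).hom = ⊥)).trans
      (RingEquiv.quotientBot _)).symm.trans e⟩

theorem flat_stalkMap_of_bot {U V : Scheme.{u}} (h : U ⟶ V) (u : U)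
    (hm : maximalIdeal (V.presheaf.stalk (h u)) = ⊥) : (h.stalkMap u).hom.Flat := by
  let _ := ((IsLocalRing.isField_iff_maximalIdeal_eq).2 hm).toField
  let _ := (h.stalkMap u).hom.toAlgebra
  exact RingHom.flat_algebraMap_iff.mpr inferInstance

/-- Cohen–Macaulayness of local rings is unchanged by etale morphisms. -/
theorem isCM_stalk_etale_iff {U X : Scheme.{u}} [IsLocallyNoetherian U] [IsLocallyNoetherian X]
    (e : U ⟶ X) [Etale e] (u : U) :
    LocCoh.IsCohenMacaulayLocalRing (U.presheaf.stalk u) ↔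
      LocCoh.IsCohenMacaulayLocalRing (X.presheaf.stalk (e u)) := by
  let _ := (e.stalkMap u).hom.toAlgebra
  have : IsLocalHom (algebraMap (X.presheaf.stalk (e u)) (U.presheaf.stalk u)) :=
    inferInstanceAs (IsLocalHom (e.stalkMap u).hom)
  have : Module.Flat (X.presheaf.stalk (e u)) (U.presheaf.stalk u) := Flat.stalkMap e u
  have h : (maximalIdeal (X.presheaf.stalk (e u))).map (algebraMap (X.presheaf.stalk (e u)) (U.presheaf.stalk u)) =
      maximalIdeal (U.presheaf.stalk u) :=
    Groth.Hensel1.map_maximalIdeal_of_essentiallyEtale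
      (Groth.Hensel1.isEssentiallyEtale_stalkMap_of_etale e u)
  refine ⟨fun hU => Groth.Calg4.isCohenMacaulayLocalRing_of_flat_descend _ _ hU ?_,
    fun hX => Groth.Calg4.isCohenMacaulayLocalRing_of_flat _ _ hX ?_⟩
  · rw [h]; exact Ideal.le_radical
  · rw [h]
    let _ : Field (U.presheaf.stalk u ⧸ maximalIdeal (U.presheaf.stalk u)) := Ideal.Quotient.field _
    exact Groth.Calg4.isCohenMacaulayLocalRing_of_isRegularLocalRing _

variable {k : Type u} [Field k] {X : Scheme.{u}} (p : X ⟶ Spec (CommRingCat.of k))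
  (t : Spec (CommRingCat.of k) ⟶ S)

theorem locP_cm_iff [LocallyOfFiniteType p] :
    LocP (fun _ _ g => ∀ x, MoreMor.IsCMAt g x)
        ((yon S).map (Over.homMk p rfl : Over.mk (p ≫ t) ⟶ Over.mk t)) ↔
      ∀ x : ↥X, LocCoh.IsCohenMacaulayLocalRing (X.presheaf.stalk x) := by
  have : IsLocallyNoetherian X := LocallyOfFiniteType.isLocallyNoetherian p
  have key : ∀ {U V : Scheme.{u}} (h : U ⟶ V) (u : U), maximalIdeal (V.presheaf.stalk (h u)) = ⊥ →
      (MoreMor.IsCMAt h u ↔ LocCoh.IsCohenMacaulayLocalRing (U.presheaf.stalk u)) := fun h u hm => by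
    obtain ⟨e⟩ := exists_fibreStalkEquiv h u hm
    exact ⟨fun H => Groth.Ega4b.isCohenMacaulayLocalRing_of_ringEquiv e.symm H.2,
      fun H => ⟨flat_stalkMap_of_bot h u hm, Groth.Ega4b.isCohenMacaulayLocalRing_of_ringEquiv e H⟩⟩
  refine (locP_yon_map_iff _ fun H U V a b h ha hb comm u => ?_).trans
    (forall_congr' fun x => key p x (maximalIdeal_stalk_spec_field k _))
  have : Etale b.left := hb
  have : Etale a.left := ha
  let a' : U.left ⟶ X := a.left
  have : Etale a' := ha
  have : IsLocallyNoetherian U.left := LocallyOfFiniteType.isLocallyNoetherian a'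
  exact (key h.left u (maximalIdeal_stalk_of_etale (b.left : V.left ⟶ Spec (CommRingCat.of k)) _)).2
    ((isCM_stalk_etale_iff a' u).2 ((key p (a' u) (maximalIdeal_stalk_spec_field k _)).1 (H (a' u))))

theorem locP_gorenstein_iff [LocallyOfFiniteType p] :
    LocP (fun _ _ g => ∀ x, (g.stalkMap x).hom.Flat ∧
        LocCoh.IsGorensteinLocalRing ((g.fiber (g x)).presheaf.stalk (g.asFiber x)))
        ((yon S).map (Over.homMk p rfl : Over.mk (p ≫ t) ⟶ Over.mk t)) ↔
      ∀ x : ↥X, LocCoh.IsGorensteinLocalRing (X.presheaf.stalk x) := by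
  have key : ∀ {U V : Scheme.{u}} (h : U ⟶ V) (u : U), maximalIdeal (V.presheaf.stalk (h u)) = ⊥ →
      (((h.stalkMap u).hom.Flat ∧
        LocCoh.IsGorensteinLocalRing ((h.fiber (h u)).presheaf.stalk (h.asFiber u))) ↔
        LocCoh.IsGorensteinLocalRing (U.presheaf.stalk u)) := fun h u hm => by
    obtain ⟨e⟩ := exists_fibreStalkEquiv h u hm
    exact ⟨fun H => (Groth.AlgSpEt.GorRing.isGorenstein_iff_of_ringEquiv e).2 H.2,
      fun H => ⟨flat_stalkMap_of_bot h u hm, (Groth.AlgSpEt.GorRing.isGorenstein_iff_of_ringEquiv e).1 H⟩⟩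
  refine (locP_yon_map_iff _ fun H U V a b h ha hb comm u => ?_).trans
    (forall_congr' fun x => key p x (maximalIdeal_stalk_spec_field k _))
  let a' : U.left ⟶ X := a.left
  let b' : V.left ⟶ Spec (CommRingCat.of k) := b.left
  have : Etale a' := ha
  have : Etale b' := hb
  refine (Groth.AlgSpEt.isGorensteinAt_iff h.left u).2
    ⟨flat_stalkMap_of_bot _ u (maximalIdeal_stalk_of_etale b' _), ?_⟩
  have e1 := Groth.AlgSpEt.etMor_gorFibre.postcomp h.left b' u
  have e2 := Groth.AlgSpEt.etMor_gorFibre.precomp a' p u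
  have comm' : a' ≫ p = h.left ≫ b' := comm
  rw [← comm', e2] at e1
  exact e1.mp ((Groth.AlgSpEt.isGorensteinAt_iff p (a' u)).1 (H (a' u))).2

theorem isLCIMor_iff :
    IsLCIMor ((yon S).map (Over.homMk p rfl : Over.mk (p ≫ t) ⟶ Over.mk t)) ↔
      ∀ x : ↥X, Synt.IsKoszulAt p x := by
  refine locP_yon_map_iff (P := lci) _ fun H U V a b h ha hb comm => ?_
  let a' : U.left ⟶ X := a.left
  let b' : V.left ⟶ Spec (CommRingCat.of k) := b.left
  have : Etale a' := ha
  have : Etale b' := hb
  have comm' : a' ≫ p = h.left ≫ b' := comm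
  rw [Groth.LciSp.lci_iff]
  refine Groth.KoszulLCI.morLCI_of_comp_smooth h.left b' ?_
  rw [← comm']
  exact Groth.LciSp.morLCI_etale_comp a' p ((Groth.LciSp.lci_iff p).1 H)

end Groth.CurvStField
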